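import Cfsg.Agent.H795.S8.SuzG
import Cfsg.Agent.H331.S8.CodimB
import Cfsg.Agent.H759.S8.SuzK
import Cfsg.Agent.H546.S8.Tools

/-!
# S4908: no abelian chief factors below `Suz` (helper795)

`chief` : `Chief 2 D X` for `X ≅ Suz` and all sets `D`.
-/

set_option autoImplicit false

namespace Cfsg.Agent.H795.S8.SuzW

open Cfsg Cfsg.Spor
open Cfsg.Agent.H320.SD
open Cfsg.Agent.H704.S8 (Chief)

universe u v

theorem chief_suz (D : Set ℕ) : Chief.{u} 2 D Suz := by
  have := fin
  refine Cfsg.Agent.H331.S8.chief_of_codimB (c := 2) (K := 74) (m := 4) D (by norm_num) Cfsg.Agent.H759.S8.SuzK.k_suz BB ?_ ?_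
  · exact Cfsg.Agent.H331.S8.pairs_orbit2 (k := 2) (wv' [0]) (wv' [4, 3])
      (Cfsg.Agent.H952.S8.Suz.index_le (X := Suz) ⟨MulEquiv.refl _⟩)
  · intro A _ _ _ p hp hA hfix hnt
    have hn : ∃ (h : Suz) (x : A), h • x ≠ x := by
      by_contra hc
      push Not at hc
      obtain ⟨x, hx⟩ := exists_ne (0 : A)
      exact hx (hfix x fun g => hc g x)
    by_cases h3 : p = 3
    · subst h3
      refine ⟨243, 27, ?_, fun z hz hB => good_three hz hB A hA hn, fun z _ hB => good_threeB hB A hA hn⟩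
      rw [card_eq]
      norm_num
    · refine ⟨512, 23, ?_, fun z hz hB => good_ne hp h3 hz hB A hA hn, fun z _ hB => good_neB hp h3 hB A hA hn⟩
      rw [card_eq]
      norm_num

/-- **`Chief` for `Suz`** -/
theorem chief {X : Type v} [Group X] (hX : Spor.IsoSuz X) (D : Set ℕ) : Chief.{u} 2 D X := by
  obtain ⟨e⟩ := hX
  exact Cfsg.Agent.H546.S8.chief_congr e.symm (chief_suz D)

end Cfsg.Agent.H795.S8.SuzW
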