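import Cfsg.Agent.H795.S8.SuzQ

/-!
# Products of two conjugates in `Suz` (helper795)

For the class representatives: products of two conjugates of powers of order divisible by 11 (by 5 for the classes 2A and 3A), and
with a power conjugate to `Z` (class 3B).
-/

set_option autoImplicit false
set_option maxRecDepth 1000000
set_option exponentiation.threshold 5000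

namespace Cfsg.Agent.H795.S8.SuzW

open Cfsg Cfsg.Spor Cfsg.Agent.H257.RG.SuzF Cfsg.Agent.H123.Cls Cfsg.Agent.H123.Cls.SuzDat

def C11 : List (ℕ × List ℕ × List ℕ) := [
  (5, [6, 2, 0, 1, 3], [0, 1]),
  (0, [], []),
  (11, [2, 4, 5, 2], [0, 1]),
  (11, [4, 6, 5, 1], [0, 3]),
  (11, [3, 4, 5, 2, 1], [0, 1]),
  (11, [1, 2], [0, 1]),
  (11, [3, 4, 6, 2, 1, 3, 0, 5], [0, 1]),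
  (11, [2, 5, 6, 0], [2, 1]),
  (11, [3, 6, 5, 1], [0, 1]),
  (11, [2, 1, 6], [2, 1]),
  (11, [1, 0, 2], [2, 1]),
  (11, [6, 0, 2, 3, 5], [2, 3]),
  (11, [1, 6, 2, 5], [2, 3]),
  (11, [2, 6, 1, 5, 4], [2, 1]),
  (11, [6, 2, 3, 1, 4, 5, 4, 2, 4, 3, 2, 4, 3, 1, 6, 2, 3, 2, 0, 3, 5, 4], [2, 1]),
  (11, [0, 1, 5], [0, 3]),
  (11, [3, 1, 6, 4], [0, 3]),
  (11, [5, 6, 4], [2, 1]),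
  (11, [4, 5, 1, 0], [2, 1]),
  (11, [3, 0, 2, 6], [2, 3]),
  (11, [4, 5, 2, 1], [0, 3]),
  (11, [6, 5, 0, 2], [0, 1]),
  (11, [6, 4, 0, 3], [0, 1]),
  (11, [2, 5, 3], [0, 1]),
  (11, [1, 5, 4, 6, 2], [0, 1]),
  (11, [6, 5, 1], [0, 3]),
  (11, [0, 3, 4], [2, 1]),
  (11, [4, 3, 6, 2], [2, 3]),
  (11, [5, 4, 6, 3, 5, 4, 1, 6, 5, 4, 5, 1, 5, 2, 1, 5, 6, 5, 4, 1, 4, 0, 4, 0, 6, 3], [0, 1]),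
  (11, [3, 1, 2, 4, 3], [0, 3]),
  (11, [3, 2, 6, 5, 1], [0, 3]),
  (11, [2, 3, 1, 2], [0, 1]),
  (11, [4, 2, 0, 2], [0, 3]),
  (11, [6, 3, 4, 2, 3], [0, 3]),
  (11, [5, 6, 1, 6], [0, 1]),
  (11, [1, 2, 3, 2, 1, 2, 4, 1, 6, 2, 1, 3, 6, 0, 4, 6, 1, 3, 5, 2, 3, 2, 0, 6, 0, 1, 5, 6, 2], [0, 1]),
  (5, [5, 0, 4, 2, 3, 6, 4, 1, 2], [0, 1])]

def C3 : List (List ℕ × List ℕ × ℕ × List ℕ) := [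
  ([2, 1, 6, 5, 2, 1, 3, 2, 1], [0, 1], 1, [0, 4, 6, 1, 2, 5, 3, 2, 1, 6, 5, 1, 6, 2, 1, 5, 3]),
  ([], [], 0, []),
  ([6, 5, 6], [2, 3], 1, [0, 1, 2, 4, 5, 1, 2, 0, 1, 6, 3, 2, 3, 4, 3, 1, 2]),
  ([4, 0, 3, 4], [0, 1], 2, [1, 2, 6, 1, 5, 6, 1, 5, 2, 3, 4, 1, 2, 1, 0]),
  ([2, 1, 2], [0, 1], 3, [0, 4, 3, 2, 1, 3, 2, 3, 4, 3, 2, 3, 1, 2, 3, 4, 0, 1, 0, 1, 2, 1, 0]),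
  ([1, 6], [0, 3], 3, [1, 3, 4, 6, 5, 1, 0, 2, 1, 6, 5, 2, 3, 2, 1, 0, 1, 5, 6]),
  ([5, 6, 3], [0, 3], 3, [0, 1, 3, 4, 3, 2, 3, 2, 1, 4, 3, 2, 3, 4, 2, 3, 1, 2, 3, 0, 1, 0, 1, 2]),
  ([4, 6, 2, 0, 5], [0, 1], 1, [1, 3, 4, 3, 2, 5, 1, 2, 0, 1, 6, 2, 3, 0, 1, 2, 1, 0]),
  ([2, 5], [0, 1], 1, [3, 4, 5, 1, 2, 3, 6, 2, 1, 5, 4, 2, 3, 2, 1, 6, 1, 2]),
  ([1, 6], [0, 1], 3, [0, 3, 6, 1, 5, 4, 3, 2, 3, 2, 1, 6, 2, 1, 0]),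
  ([4, 6, 1, 4, 1], [2, 3], 3, [0, 1, 2, 3, 4, 5, 1, 6, 0, 1, 2, 0, 1, 6, 5, 3, 1, 2, 1]),
  ([0, 5, 2, 5], [0, 1], 3, [1, 3, 4, 3, 5, 1, 2, 3, 1, 2, 0, 1, 6, 5, 2, 1]),
  ([6, 3, 5, 4], [0, 1], 3, [1, 6, 1, 2, 0, 1, 6, 5, 2, 3, 1, 0, 1, 2, 1]),
  ([5, 6, 1, 4, 2], [0, 1], 3, [0, 4, 3, 6, 1, 2, 3, 4, 5, 1, 2, 3, 4, 2, 3, 1, 2, 3, 0, 1, 0, 1, 2, 0]),
  ([6, 5, 2, 3, 2], [0, 1], 1, [2, 1, 0, 4, 5, 1, 6, 0, 1, 2, 3, 2, 1, 6, 5, 1, 2, 1, 0]),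
  ([5, 0], [0, 1], 3, [0, 1, 4, 3, 2, 3, 4, 5, 6, 1, 2, 0, 1, 5, 3, 2, 3, 2, 1, 6, 5, 2]),
  ([6, 0], [2, 3], 2, [1, 0, 1, 2, 5, 6, 1, 5, 2, 0, 1, 6, 3, 2, 1, 0, 1]),
  ([6, 5, 6, 2, 6], [0, 3], 3, [1, 0, 4, 3, 2, 3, 4, 5, 1, 2, 3, 4, 2, 3, 1, 2, 3, 2, 1, 0, 1, 2, 0]),
  ([4, 1, 5, 2], [2, 1], 3, [1, 2, 3, 4, 6, 5, 1, 0, 2, 3, 6, 4, 2, 3, 1, 2, 3, 2, 1, 0, 1, 2]),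
  ([0, 3, 0, 3, 5], [0, 3], 3, [1, 2, 1, 4, 3, 2, 1, 6, 5, 1, 6, 2, 0, 1, 0, 1]),
  ([1, 3, 2, 6, 2], [0, 1], 3, [4, 3, 2, 3, 4, 5, 1, 2, 3, 4, 2, 3, 1, 2, 3, 2, 1, 0, 1, 2, 1]),
  ([2, 3], [0, 3], 3, [1, 0, 3, 2, 1, 3, 5, 1, 2, 3, 2, 1, 5, 6, 1, 5, 2, 1]),
  ([4, 3, 6, 1, 0], [0, 3], 2, [2, 1, 6, 1, 5, 2, 1, 6, 2, 1, 5]),
  ([3, 1], [0, 1], 3, [1, 2, 1, 3, 2, 4, 6, 1, 0, 1, 5, 3, 2, 3, 1, 0, 1, 2]),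
  ([6, 2, 0, 1, 2], [0, 1], 2, [1, 3, 2, 4, 6, 3, 1, 2, 0, 1, 5, 6, 1, 5, 2, 0]),
  ([1, 5, 4, 6], [2, 3], 3, [3, 4, 3, 2, 1, 3, 2, 3, 4, 3, 2, 3, 1, 2, 3, 2, 1, 0, 1, 5, 2, 0]),
  ([1, 3, 5, 4, 5], [0, 3], 3, [0, 4, 6, 1, 2, 3, 5, 1, 2, 3, 2, 1, 0, 1, 6, 4, 3, 2, 0, 1, 0]),
  ([5, 4, 3], [2, 1], 3, [0, 1, 4, 3, 2, 1, 3, 2, 3, 4, 3, 2, 3, 1, 2, 3, 2, 1, 0, 1, 2]),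
  ([1, 2, 0, 3, 6, 5, 2, 1, 6], [0, 3], 2, [1, 2, 1, 3, 2, 6, 1, 2, 3, 4, 5, 1, 2, 3, 2, 1, 0, 1, 6, 5, 3, 2]),
  ([6, 1, 3, 4], [2, 1], 3, [0, 4, 3, 2, 3, 4, 5, 1, 2, 3, 2, 4, 3, 1, 2, 3, 4, 2, 1, 0, 1, 2, 1]),
  ([2, 6, 2], [2, 3], 2, [3, 4, 3, 2, 1, 0, 3, 2, 5, 3, 1, 2, 3, 2, 1, 6, 5, 1, 0, 1, 0]),
  ([1, 2, 6, 1, 6], [0, 1], 2, [1, 3, 2, 0, 1, 6, 5, 1, 2, 3, 2, 0, 1, 0]),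
  ([6, 0, 6], [2, 3], 3, [4, 3, 2, 1, 3, 2, 3, 4, 3, 2, 3, 1, 2, 3, 2, 1, 0, 1, 2]),
  ([6, 3, 0, 2], [0, 3], 3, [4, 3, 2, 1, 3, 2, 3, 4, 3, 2, 3, 1, 2, 0, 1, 0, 1, 5, 3, 4, 2]),
  ([6, 5, 3, 1, 2], [0, 1], 3, [0, 3, 2, 1, 3, 4, 5, 1, 2, 6, 3, 2, 1, 0, 1, 6, 1, 5, 2, 3, 2]),
  ([1, 0, 1, 4, 2, 6, 5, 1], [0, 3], 2, [3, 2, 1, 0, 4, 5, 3, 1, 2, 0, 1, 5, 6, 1, 5, 6, 2]),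
  ([], [], 0, [])]

noncomputable def chk11 (P : ℕ) (c : ℕ × List ℕ × List ℕ) : Bool :=
  c.2.2.isEmpty || (okL c.2.1 && (Nat.beq c.2.2.length 2 && chkW P c.2.1 c.2.1.reverse c.2.2 c.1))

noncomputable def chk3 (P : ℕ) (c : List ℕ × List ℕ × ℕ × List ℕ) : Bool :=
  c.2.1.isEmpty || (okL c.1 && (Nat.beq c.2.1.length 2 && (okL c.2.2.2 &&
    chkG P c.1 c.1.reverse (rep c.2.2.1 c.2.1) (c.2.2.2 ++ Z ++ c.2.2.2.reverse))))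

theorem all11 : ((D.zip C11).all fun z => chk11 z.1.1 z.2) = true := by
  unfold D C11
  decide +kernel

theorem all3 : ((D.zip C3).all fun z => chk3 z.1.1 z.2) = true := by
  unfold D C3
  decide +kernel

/-- an element of order 11 -/
def YE : List ℕ := [3, 2, 1, 6, 5, 4, 1, 2, 3, 2, 1, 5, 6, 4, 3, 2, 3, 2, 1, 4, 6, 5, 1, 2, 3, 2, 1, 4, 3, 2, 5, 6]

/-- it is normalised by an element of order 10 -/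
def BE : List ℕ := [2, 1, 6, 4, 3, 1, 2, 0, 1, 5, 3, 4, 3, 2, 3, 2, 1, 0, 1, 2, 4, 3, 2, 5, 1, 0, 1, 2, 3, 4, 5, 6, 1, 2, 3, 1, 0]

theorem qe : (chkE (rp YE 11) [] && (!(chkE YE []) && (chkE (rp BE 10) [] && chkE (BE ++ YE) (YE ++ YE ++ BE)))) = true := by
  decide +kernel

end Cfsg.Agent.H795.S8.SuzW
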