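import Cfsg.Agent.H320.SD.ChiefOf
import Cfsg.Agent.H827.S8.Cyc

/-!
# Codimensions over all modules of a group (helper795)

* `Good X p q g` : `q ≤ |A : C_A(g)|` for all nontrivial modules `A` of exponent `p`; invariant under automorphisms;
* `good_cyc` : an element of prime order normalised by an element of order `q`.
-/

set_option autoImplicit false
set_option linter.unusedSectionVars false

namespace Cfsg.Agent.H795.S8

open Cfsg Cfsg.Agent.H320.SD

universe u v

variable {X : Type v} [Group X]

/-- the module twisted by an automorphism -/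
def Tw (_ : MulAut X) (A : Type u) : Type u := A

instance twGroup (α : MulAut X) (A : Type u) [h : AddCommGroup A] : AddCommGroup (Tw α A) := h

instance twFinite (α : MulAut X) (A : Type u) [h : Finite A] : Finite (Tw α A) := h

instance twAct (α : MulAut X) (A : Type u) [AddCommGroup A] [DistribMulAction X A] : DistribMulAction X (Tw α A) where
  smul g a := (α g • (show A from a) : A)
  one_smul a := by
    show (α 1 • (show A from a) : A) = a
    rw [map_one, one_smul]
  mul_smul g h a := by
    show (α (g * h) • (show A from a) : A) = α g • α h • (show A from a)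
    rw [map_mul, mul_smul]
  smul_zero g := smul_zero (A := A) (α g)
  smul_add g a b := smul_add (A := A) (α g) a b

theorem tw_smul (α : MulAut X) (A : Type u) [AddCommGroup A] [DistribMulAction X A] (g : X) (a : A) :
    (g • (show Tw α A from a) : Tw α A) = (α g • a : A) := rfl

/-- `q ≤ |A : C_A(g)|` for all nontrivial finite modules of exponent `p` -/
def Good (X : Type v) [Group X] (p q : ℕ) (g : X) : Prop :=
  ∀ (A : Type u) [AddCommGroup A] [Finite A] [DistribMulAction X A], (∀ x : A, p • x = 0) →
    (∃ (h : X) (x : A), h • x ≠ x) → q ≤ (fx A g).index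

theorem Good.aut {p q : ℕ} {g : X} (h : Good.{u} X p q g) (α : MulAut X) : Good.{u} X p q (α g) := by
  intro A _ _ _ hp hn
  have h1 : q ≤ (fx (Tw α A) g).index := by
    refine h (Tw α A) hp ?_
    obtain ⟨k, x, hx⟩ := hn
    refine ⟨α.symm k, x, ?_⟩
    show (α (α.symm k) • (x : A) : A) ≠ x
    rwa [MulEquiv.apply_symm_apply]
  exact h1

section one

variable {A : Type u} [AddCommGroup A] [DistribMulAction X A]

/-- the action as automorphisms of the multiplicative group -/
def act (X : Type v) [Group X] (A : Type u) [AddCommGroup A] [DistribMulAction X A] : X →* MulAut (Multiplicative A) where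
  toFun g :=
    { toFun := fun x => Multiplicative.ofAdd (g • Multiplicative.toAdd x)
      invFun := fun x => Multiplicative.ofAdd (g⁻¹ • Multiplicative.toAdd x)
      left_inv := fun x => by
        show Multiplicative.ofAdd (g⁻¹ • g • Multiplicative.toAdd x) = x
        rw [inv_smul_smul, ofAdd_toAdd]
      right_inv := fun x => by
        show Multiplicative.ofAdd (g • g⁻¹ • Multiplicative.toAdd x) = x
        rw [smul_inv_smul, ofAdd_toAdd]
      map_mul' := fun x y => by
        show Multiplicative.ofAdd (g • (Multiplicative.toAdd x + Multiplicative.toAdd y)) = _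
        rw [smul_add, ofAdd_add] }
  map_one' := by
    ext x
    show Multiplicative.ofAdd ((1 : X) • Multiplicative.toAdd x) = x
    rw [one_smul, ofAdd_toAdd]
  map_mul' g h := by
    ext x
    show Multiplicative.ofAdd ((g * h) • Multiplicative.toAdd x) = Multiplicative.ofAdd (g • h • Multiplicative.toAdd x)
    rw [mul_smul]

theorem act_apply (g : X) (x : A) : act X A g (Multiplicative.ofAdd x) = Multiplicative.ofAdd (g • x) := rfl

/-- a nontrivial module of a simple group is faithful -/
theorem faith [IsSimpleGroup X] (hn : ∃ (h : X) (x : A), h • x ≠ x) {z : X} (hz : z ≠ 1) : ∃ x : A, z • x ≠ x := by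
  by_contra hc
  push Not at hc
  let f : X →* MulAut (Multiplicative A) := act X A
  have hf : ∀ g : X, g ∈ f.ker ↔ ∀ x : A, g • x = x := by
    intro g
    rw [MonoidHom.mem_ker]
    constructor
    · intro h x
      have h1 := DFunLike.congr_fun h (Multiplicative.ofAdd x)
      exact Multiplicative.ofAdd.injective h1
    · intro h
      ext x
      exact congrArg Multiplicative.ofAdd (h (Multiplicative.toAdd x))
  rcases IsSimpleGroup.eq_bot_or_eq_top_of_normal f.ker inferInstance with h | h
  · have h1 := (hf z).2 hc
    rw [h, Subgroup.mem_bot] at h1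
    exact hz h1
  · obtain ⟨g, x, hx⟩ := hn
    have h1 : g ∈ f.ker := by rw [h]; exact Subgroup.mem_top g
    exact hx ((hf g).1 h1 x)

variable [Finite A]

theorem index_pow (g : X) (n : ℕ) : (fx A (g ^ n)).index ≤ (fx A g).index := by
  refine AddSubgroup.index_antitone ?_
  intro x hx
  rw [mem_fx] at hx ⊢
  induction n with
  | zero => rw [pow_zero, one_smul]
  | succ n ih => rw [pow_succ, mul_smul, hx, ih]

theorem index_one : (fx A (1 : X)).index = 1 := by
  rw [AddSubgroup.index_eq_one]
  ext x
  simp [mem_fx]

/-- the index is a power of `p` -/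
theorem index_prime_pow {p : ℕ} (hp : p.Prime) (hA : ∀ x : A, p • x = 0) (g : X) : ∃ k : ℕ, (fx A g).index = p ^ k := by
  have : Fact p.Prime := ⟨hp⟩
  have h1 : IsPGroup p (Multiplicative A) := by
    intro x
    refine ⟨1, ?_⟩
    rw [pow_one]
    exact hA (Multiplicative.toAdd x)
  obtain ⟨n, hn⟩ := IsPGroup.iff_card.1 h1
  have h2 : (fx A g).index ∣ p ^ n := by
    rw [← hn]
    exact (AddSubgroup.index_dvd_card (fx A g))
  obtain ⟨k, -, hk⟩ := (Nat.dvd_prime_pow hp).1 h2
  exact ⟨k, hk⟩

end one

/-- **an element of prime order, normalised by an element of order `q`** -/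
theorem good_cyc [IsSimpleGroup X] {r p q k : ℕ} (hr : r.Prime) (hp : p.Prime) (hrp : r ≠ p) {a b : X} (ha : a ^ p = 1)
    (ha1 : a ≠ 1) (hq : 0 < q) (hb : b ^ q = 1) (hab : b * a * b⁻¹ = a ^ k)
    (hk : ∀ i, 0 < i → i < q → ¬ k ^ i ≡ 1 [MOD p]) : Good.{u} X r (r ^ q) a := by
  intro A _ _ _ hA hn
  let ρ : X →* MulAut (Multiplicative A) := act X A
  have hρ : ∀ (g : X) (x : A), ρ g (Multiplicative.ofAdd x) = Multiplicative.ofAdd (g • x) := fun g x => rfl
  have hρ1 : ρ a ≠ 1 := by
    intro h
    obtain ⟨x, hx⟩ := faith hn ha1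
    apply hx
    have h1 := DFunLike.congr_fun h (Multiplicative.ofAdd x)
    rw [hρ] at h1
    exact Multiplicative.ofAdd.injective h1
  have h := Cfsg.Agent.H827.S8.cyc (Λ := Multiplicative A) hr hp hrp (fun x => hA (Multiplicative.toAdd x)) (ρ a) (ρ b)
    (by rw [← map_pow, ha, map_one]) hρ1 hq (by rw [← map_pow, hb, map_one])
    (by rw [← map_mul, ← map_inv, ← map_mul, hab, map_pow]) hk
  have h2 : Nat.card {x : Multiplicative A // ρ a x = x} = Nat.card (fx A a) := by
    refine Nat.card_congr ⟨fun x => ⟨Multiplicative.toAdd x.1, ?_⟩, fun x => ⟨Multiplicative.ofAdd (x : A), ?_⟩,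
      fun x => rfl, fun x => rfl⟩
    · exact congrArg Multiplicative.toAdd x.2
    · show ρ a (Multiplicative.ofAdd (x : A)) = Multiplicative.ofAdd (x : A)
      rw [hρ, mem_fx.1 x.2]
  have h3 : Nat.card (Multiplicative A) = Nat.card A := rfl
  rw [h2, h3, ← AddSubgroup.card_mul_index (fx A a), mul_comm] at h
  exact Nat.le_of_mul_le_mul_left h Nat.card_pos

end Cfsg.Agent.H795.S8
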