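import Cfsg.Agent.H795.S8.SuzC
import Cfsg.Agent.H795.S8.Tw
import Cfsg.Agent.H827.S8.Quad

/-!
# Codimensions of the elements of `Suz` on its modules (helper795)

`BB` : the classes 2A and 3A (images of two elements under automorphisms).
* `good_three` : exponent 3: `243 ≤ |A : C_A(g)|` outside `BB`, `27 ≤` in `BB`;
* `good_ne` : exponent `p ≠ 3`: `512 ≤` outside `BB`, `23 ≤` in `BB`.
-/

set_option autoImplicit false
set_option maxRecDepth 1000000
set_option exponentiation.threshold 5000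

namespace Cfsg.Agent.H795.S8.SuzW

open Subgroup MulAction Cfsg.Agent.H257.RG.SuzF
open Cfsg Cfsg.Spor Cfsg.Agent.H123.Cls Cfsg.Agent.H123.Cls.SuzDat
open Cfsg.Agent.OddHalf.Table.SuzRep (ψ ψ_val ψ_injective)
open Cfsg.Agent.H320.SD
open Cfsg.Agent.H827.S8 (Quad quad_index)

universe u

theorem simple : IsSimpleGroup Suz := Cfsg.Agent.S1694.result.1

theorem card_eq : Nat.card Suz = 448345497600 := Cfsg.Agent.S1694.result.2

theorem fin : Finite Suz := Nat.finite_of_card_ne_zero (by rw [card_eq]; norm_num)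

section index

variable {A : Type u} [AddCommGroup A] [Finite A] [DistribMulAction Suz A]

theorem index_sy (x u : Suz) (s : ℕ) : (fx A (sy x u s)).index ≤ (fx A x).index := by
  match s with
  | 0 => exact le_rfl
  | 1 => exact (index_conj x u).le
  | 2 => exact index_pow x 2
  | (k + 3) => exact (index_conj (x ^ 2) u).le.trans (index_pow x 2)

theorem index_wd (x u : Suz) (L : List ℕ) : (fx A (wd x u L)).index ≤ (fx A x).index ^ L.length := by
  induction L with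
  | nil =>
    have : wd x u [] = 1 := by simp [wd]
    rw [this, index_one, List.length_nil, pow_zero]
  | cons s L ih =>
    have e : wd x u (s :: L) = sy x u s * wd x u L := by
      simp only [wd, List.map_cons, List.prod_cons]
    rw [e, List.length_cons, pow_succ']
    exact (index_mul _ _).trans (Nat.mul_le_mul (index_sy x u s) ih)

end index

/-- the word is not trivial -/
noncomputable def chkN (a : List ℕ) : Bool := okL a && !(Nat.beq (evw 11 gens a 0) 0)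

theorem w_ne {a : List ℕ} (h : chkN a = true) : wv' a ≠ 1 := by
  unfold chkN at h
  rw [Bool.and_eq_true] at h
  obtain ⟨h1, h2⟩ := h
  intro h3
  have h4 := ev_tab a (okL_spec h1) ⟨0, by norm_num⟩
  have h5 : Cfsg.Agent.SporadicRecognition.SuzOrder.el (a.map gn) = 1 := h3
  rw [h5, map_one] at h4
  have h6 : evw 11 gens a 0 = 0 := h4.symm
  rw [h6] at h2
  simp at h2

theorem quad_of {K U V A B : List ℕ} {c1 c2 r1 r2 r3 r4 : ℕ} (h : chkQ K U V A B c1 c2 r1 r2 r3 r4 = true) :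
    Quad (wv' Z) (wv' K) (wv' U) (wv' V) (wv' A) (wv' B) := by
  unfold chkQ at h
  simp only [Bool.and_eq_true] at h
  obtain ⟨h1, h2, h3, h4, h5, h6, h7, h8, h9, h10, h11, h12, h13, h14⟩ := h
  have e1 := w_eq h1
  have e2 := w_eq h2
  have e3 := w_eq h3
  have e4 := w_eq h4
  have e5 := w_eq h5
  have e6 := w_eq h6
  have e7 := w_eq h7
  have e8 := w_eq h8
  have e9 := w_eq h9
  have e10 := w_eq h10
  have e11 := w_eq h11
  have e12 := w_eq h12
  have e13 := w_eq h13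
  have e14 := w_eq h14
  simp only [w_app, w_rp] at e1 e2 e3 e4 e5 e6 e7 e8 e9 e10 e11 e12 e13 e14
  exact ⟨e1, e2, e3, e4, e5, e6, e7, e8, ⟨c1, e9⟩, ⟨c2, e10⟩, ⟨r1, e11⟩, ⟨r2, e12⟩, ⟨r3, e13⟩, ⟨r4, e14⟩⟩

theorem nz : chkN Z = true := by decide +kernel

/-- **exponent not 3: the class 3B** -/
theorem good_z {p : ℕ} (hp : p.Prime) (hp3 : p ≠ 3) : Good.{u} Suz p (2 ^ 18) (wv' Z) := by
  intro A _ _ _ hA hn
  have := simple
  have hq := qz
  simp only [Bool.and_eq_true] at hq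
  obtain ⟨z1, z2, z3⟩ := hq
  have e1 := w_eq z1
  have e2 := w_eq z2
  have e3 := w_eq z3
  rw [w_rp, w_nil] at e1 e2
  rw [w_app, w_app] at e3
  refine quad_index (y := wv' Y) ?_ e1 e2 e3 (faith hn (w_ne nz)) ?_
  · intro x hx
    have h1 : (3 : ℕ) • x = 0 := by
      rw [← hx, succ_nsmul, two_nsmul]
    have h3 : addOrderOf x ∣ Nat.gcd 3 p :=
      Nat.dvd_gcd (addOrderOf_dvd_of_nsmul_eq_zero h1) (addOrderOf_dvd_of_nsmul_eq_zero (hA x))
    have h4 : Nat.gcd 3 p = 1 := (Nat.coprime_primes Nat.prime_three hp).2 (Ne.symm hp3)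
    rw [h4, Nat.dvd_one] at h3
    exact AddMonoid.addOrderOf_eq_one_iff.1 h3
  · intro j hj
    have hk : ∀ n : ℕ, wv' (Y ++ rp Z n) = wv' Y * wv' Z ^ n := fun n => by rw [w_app, w_rp]
    rw [← hk]
    interval_cases j
    · exact ⟨_, _, _, _, quad_of q0⟩
    · exact ⟨_, _, _, _, quad_of q1⟩
    · exact ⟨_, _, _, _, quad_of q2⟩

theorem nye : chkN YE = true := by decide +kernel

theorem ye_facts : wv' YE ^ 11 = 1 ∧ wv' BE ^ 10 = 1 ∧ wv' BE * wv' YE * (wv' BE)⁻¹ = wv' YE ^ 2 := by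
  have hq := qe
  simp only [Bool.and_eq_true] at hq
  obtain ⟨h1, -, h2, h3⟩ := hq
  have e1 := w_eq h1
  have e2 := w_eq h2
  have e3 := w_eq h3
  rw [w_rp, w_nil] at e1 e2
  simp only [w_app] at e3
  refine ⟨e1, e2, ?_⟩
  rw [e3, mul_inv_cancel_right, pow_two]

theorem order_ye : orderOf (wv' YE) = 11 := by
  have : Fact (Nat.Prime 11) := ⟨by norm_num⟩
  exact orderOf_eq_prime ye_facts.1 (w_ne nye)

/-- exponent 3: one element of order 11 -/
theorem good_ye : Good.{u} Suz 3 (3 ^ 10) (wv' YE) := by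
  have := simple
  obtain ⟨h1, h2, h3⟩ := ye_facts
  refine good_cyc (p := 11) (k := 2) (b := wv' BE) (by norm_num) (by norm_num) (by norm_num) h1 (w_ne nye) (by norm_num) h2 h3 ?_
  intro i hi1 hi2
  interval_cases i <;> decide

theorem good_eleven {g : Suz} (hg : orderOf g = 11) : Good.{u} Suz 3 (3 ^ 10) g := by
  obtain ⟨i, x, hi, hx, r, α, hr, hgr⟩ := idx_of hg [9] (by decide)
  obtain ⟨j, y, hj, hy, s, β, hs, hgs⟩ := idx_of order_ye [9] (by decide)
  rw [List.mem_singleton] at hi hj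
  subst hi
  subst hj
  have hxy : x = y := Option.some_injective _ (hx.symm.trans hy)
  subst hxy
  have hrs : r = s := by
    apply ψ_injective
    ext p
    rw [hr, hs]
  subst hrs
  have h1 : r = β⁻¹ (wv' YE) := by
    rw [hgs]
    exact (β.symm_apply_apply r).symm
  rw [hgr, h1]
  exact (good_ye.aut β⁻¹).aut α

theorem good_dvd {g : Suz} (hg : 11 ∣ orderOf g) : Good.{u} Suz 3 (3 ^ 10) g := by
  have := fin
  intro A _ _ _ hA hn
  have h0 : orderOf g ≠ 0 := (orderOf_pos g).ne'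
  have h1 : orderOf (g ^ (orderOf g / 11)) = 11 := orderOf_pow_orderOf_div h0 hg
  exact (good_eleven h1 A hA hn).trans (index_pow g _)

/-- words of the representatives of the classes 2A and 3A -/
def CT : List (List ℕ) := [[0], [], [], [], [], [], [], [], [], [], [], [], [], [], [], [], [], [], [], [], [], [], [], [], [],
  [], [], [], [], [], [], [], [], [], [], [], [4, 3]]

noncomputable def chkT (P : ℕ) (b : List ℕ) : Bool :=
  b.isEmpty || (okL b && [14, 98, 1, 1575, 0].all fun q => Nat.beq (lk 11 P q) (evw 11 gens b q))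

theorem allT : ((D.zip CT).all fun z => chkT z.1.1 z.2) = true := by
  unfold D CT
  decide +kernel

theorem t_eq {i : ℕ} {x : ℕ × ℕ × List ℕ} {b : List ℕ} (hx : D[i]? = some x) (hb : CT[i]? = some b) (hb0 : b.isEmpty = false)
    {r : Suz} (hr : ∀ p : Fin 1782, (ψ r p : ℕ) = lk 11 x.1 p) : r = wv' b := by
  have hz : (x, b) ∈ D.zip CT := List.mem_iff_getElem?.2 ⟨i, List.getElem?_zip_eq_some.2 ⟨hx, hb⟩⟩
  have hc := List.all_eq_true.1 allT _ hz
  unfold chkT at hc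
  rw [Bool.or_eq_true, Bool.and_eq_true] at hc
  rcases hc with hc | ⟨h1, h2⟩
  · rw [hb0] at hc
    exact absurd hc (by decide)
  · apply ext_base
    intro q hq
    have h4 := List.all_eq_true.1 h2 q hq
    rw [hr]
    unfold wv'
    rw [ev_tab b (okL_spec h1)]
    exact Nat.eq_of_beq_eq_true h4

/-- the classes 2A and 3A -/
def BB : Set Suz := {g | (∃ α : MulAut Suz, g = α (wv' [0])) ∨ ∃ α : MulAut Suz, g = α (wv' [4, 3])}

theorem len11 : ∀ i < 37, i = 0 ∨ i = 1 ∨ i = 36 ∨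
    (C11.getD i (0, [], [])).1 = 11 ∧ (C11.getD i (0, [], [])).2.2.isEmpty = false := by
  unfold C11
  decide +kernel

theorem len3 : ∀ i < 37, i = 0 ∨ i = 1 ∨ i = 36 ∨ (C3.getD i ([], [], 0, [])).2.1.isEmpty = false := by
  unfold C3
  decide +kernel

theorem lenC : C11.length = 37 ∧ C3.length = 37 := by
  constructor <;> rfl

/-- the class outside `BB` -/
theorem rep_of {g : Suz} (hg : g ≠ 1) (hB : g ∉ BB) : ∃ (i : ℕ) (x : ℕ × ℕ × List ℕ), i < 37 ∧ i ≠ 0 ∧ i ≠ 1 ∧ i ≠ 36 ∧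
    D[i]? = some x ∧ ∃ (r : Suz) (α : MulAut Suz), (∀ p : Fin 1782, (ψ r p : ℕ) = lk 11 x.1 p) ∧ g = α r := by
  obtain ⟨i, x, y, hi, hx, hy, ⟨r, α, hr, hgr⟩, -, hd⟩ := cls_of g
  refine ⟨i, x, hi, ?_, ?_, ?_, hx, r, α, hr, hgr⟩
  · rintro rfl
    apply hB
    left
    refine ⟨α, ?_⟩
    rw [hgr, t_eq hx (b := [0]) rfl rfl hr]
  · rintro rfl
    have h1 : y = (0, 1, 1) := Option.some_injective _ (hy.symm.trans rfl)
    rw [h1] at hd
    exact hg (orderOf_eq_one_iff.1 (Nat.dvd_one.1 hd))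
  · rintro rfl
    apply hB
    right
    refine ⟨α, ?_⟩
    rw [hgr, t_eq hx (b := [4, 3]) rfl rfl hr]

/-- exponent 3, outside `BB` -/
theorem good_three {g : Suz} (hg : g ≠ 1) (hB : g ∉ BB) : Good.{u} Suz 3 243 g := by
  obtain ⟨i, x, hi, h0, h1, h36, hx, r, α, hr, rfl⟩ := rep_of hg hB
  refine Good.aut ?_ α
  have hi' : i < C11.length := by rw [lenC.1]; exact hi
  have hc : C11[i]? = some (C11.getD i (0, [], [])) := by
    rw [List.getD_eq_getElem?_getD, List.getElem?_eq_getElem hi']; rfl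
  obtain ⟨c, hcc⟩ : ∃ c, c = C11.getD i (0, [], []) := ⟨_, rfl⟩
  have hl := len11 i hi
  rw [← hcc] at hl hc
  have hl' : c.1 = 11 ∧ c.2.2.isEmpty = false := by tauto
  have hz : (x, c) ∈ D.zip C11 := List.mem_iff_getElem?.2 ⟨i, List.getElem?_zip_eq_some.2 ⟨hx, hc⟩⟩
  have hk := List.all_eq_true.1 all11 _ hz
  unfold chk11 at hk
  simp only [Bool.or_eq_true, Bool.and_eq_true] at hk
  rcases hk with hk | ⟨k1, k2, k3⟩
  · rw [hl'.2] at hk
    exact absurd hk (by decide)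
  · have hlen : c.2.2.length = 2 := Nat.eq_of_beq_eq_true k2
    rw [hl'.1] at k3
    have hd : 11 ∣ orderOf (wd r (wv' c.2.1) c.2.2) := dvd_of_chk hr (okL_spec k1) rfl (by norm_num) k3
    intro A _ _ _ hA hn
    have h2 := good_dvd hd A hA hn
    have h3 := index_wd (A := A) r (wv' c.2.1) c.2.2
    rw [hlen] at h3
    have h4 : 243 ^ 2 ≤ (fx A r).index ^ 2 := le_trans (by norm_num) (h2.trans h3)
    exact (Nat.pow_le_pow_iff_left (by norm_num)).1 h4

/-- exponent not 3, outside `BB` -/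
theorem good_ne {p : ℕ} (hp : p.Prime) (hp3 : p ≠ 3) {g : Suz} (hg : g ≠ 1) (hB : g ∉ BB) : Good.{u} Suz p 512 g := by
  obtain ⟨i, x, hi, h0, h1, h36, hx, r, α, hr, rfl⟩ := rep_of hg hB
  refine Good.aut ?_ α
  have hi' : i < C3.length := by rw [lenC.2]; exact hi
  have hc : C3[i]? = some (C3.getD i ([], [], 0, [])) := by
    rw [List.getD_eq_getElem?_getD, List.getElem?_eq_getElem hi']; rfl
  obtain ⟨c, hcc⟩ : ∃ c, c = C3.getD i ([], [], 0, []) := ⟨_, rfl⟩
  have hl := len3 i hi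
  rw [← hcc] at hl hc
  have hl' : c.2.1.isEmpty = false := by tauto
  have hz : (x, c) ∈ D.zip C3 := List.mem_iff_getElem?.2 ⟨i, List.getElem?_zip_eq_some.2 ⟨hx, hc⟩⟩
  have hk := List.all_eq_true.1 all3 _ hz
  unfold chk3 at hk
  simp only [Bool.or_eq_true, Bool.and_eq_true] at hk
  rcases hk with hk | ⟨k1, k2, -, k3⟩
  · rw [hl'] at hk
    exact absurd hk (by decide)
  · have hlen : c.2.1.length = 2 := Nat.eq_of_beq_eq_true k2
    have hd := wd_eq hr k1 rfl k3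
    rw [wd_rep, w_app, w_app, w_rev] at hd
    intro A _ _ _ hA hn
    have h2 := good_z hp hp3 A hA hn
    rw [← index_conj _ (wv' c.2.2.2), ← hd] at h2
    have h2' := h2.trans (index_pow (A := A) (wd r (wv' c.1) c.2.1) c.2.2.1)
    have h3 := index_wd (A := A) r (wv' c.1) c.2.1
    rw [hlen] at h3
    have h4 : 512 ^ 2 ≤ (fx A r).index ^ 2 := le_trans (by norm_num) (h2'.trans h3)
    exact (Nat.pow_le_pow_iff_left (by norm_num)).1 h4

/-- products of order five of two elements of `BB` -/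
def P0 : List ℕ := [0] ++ [6, 2, 0, 1, 3] ++ [0] ++ [3, 1, 0, 2, 6]

def P3 : List ℕ := [4, 3] ++ [5, 0, 4, 2, 3, 6, 4, 1, 2] ++ [4, 3] ++ [2, 1, 4, 6, 3, 2, 4, 0, 5]

theorem p_facts : (chkE (rp P0 5) [] && (chkN P0 && (chkE (rp P3 5) [] && (chkN P3 &&
    (chkE (rp [0] 2) [] && chkE (rp [4, 3] 3) []))))) = true := by decide +kernel

theorem b_rep {Q q : ℕ} {p : ℕ} (hp : p.Prime) (hQ : ∀ g : Suz, g ≠ 1 → g ∉ BB → Good.{u} Suz p Q g) {g : Suz} (hg : g ∈ BB)
    (A : Type u) [AddCommGroup A] [Finite A] [DistribMulAction Suz A] (hA : ∀ x : A, p • x = 0)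
    (hn : ∃ (h : Suz) (x : A), h • x ≠ x) (hq : ∀ m k : ℕ, m = p ^ k → Q ≤ m ^ 2 → q ≤ m) : q ≤ (fx A g).index := by
  have hf := p_facts
  simp only [Bool.and_eq_true] at hf
  obtain ⟨f1, f2, f3, f4, f5, f6⟩ := hf
  have e1 := w_eq f1
  have e3 := w_eq f3
  have e5 := w_eq f5
  have e6 := w_eq f6
  rw [w_rp, w_nil] at e1 e3 e5 e6
  have n1 := w_ne f2
  have n3 := w_ne f4
  -- elements of order five are outside `BB`
  have key : ∀ w : Suz, w ^ 5 = 1 → w ≠ 1 → w ∉ BB := by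
    rintro w h5 h1 (⟨α, rfl⟩ | ⟨α, rfl⟩)
    · apply h1
      have h2 : α (wv' [0]) ^ 2 = 1 := by rw [← map_pow, e5, map_one]
      have h3 : orderOf (α (wv' [0])) ∣ Nat.gcd 5 2 := Nat.dvd_gcd (orderOf_dvd_of_pow_eq_one h5) (orderOf_dvd_of_pow_eq_one h2)
      exact orderOf_eq_one_iff.1 (Nat.dvd_one.1 h3)
    · apply h1
      have h2 : α (wv' [4, 3]) ^ 3 = 1 := by rw [← map_pow, e6, map_one]
      have h3 : orderOf (α (wv' [4, 3])) ∣ Nat.gcd 5 3 := Nat.dvd_gcd (orderOf_dvd_of_pow_eq_one h5) (orderOf_dvd_of_pow_eq_one h2)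
      exact orderOf_eq_one_iff.1 (Nat.dvd_one.1 h3)
  have g0 : ∀ (a u : List ℕ) (w : Suz), w = wv' a * (wv' u * wv' a * (wv' u)⁻¹) → w ^ 5 = 1 → w ≠ 1 →
      Good.{u} Suz p q (wv' a) := by
    intro a u w hw h5 h1 A' _ _ _ hA' hn'
    have h2 := hQ w h1 (key w h5 h1) A' hA' hn'
    rw [hw] at h2
    have h3 := h2.trans (index_mul (A := A') (wv' a) (wv' u * wv' a * (wv' u)⁻¹))
    rw [index_conj, ← pow_two] at h3
    obtain ⟨k, hk⟩ := index_prime_pow hp hA' (wv' a)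
    exact hq _ k hk h3
  rcases hg with ⟨α, rfl⟩ | ⟨α, rfl⟩
  · refine (g0 [0] [6, 2, 0, 1, 3] (wv' P0) ?_ e1 n1).aut α A hA hn
    unfold P0
    rw [w_app, w_app, w_app, show ([3, 1, 0, 2, 6] : List ℕ) = [6, 2, 0, 1, 3].reverse from rfl, w_rev]
    group
  · refine (g0 [4, 3] [5, 0, 4, 2, 3, 6, 4, 1, 2] (wv' P3) ?_ e3 n3).aut α A hA hn
    unfold P3
    rw [w_app, w_app, w_app, show ([2, 1, 4, 6, 3, 2, 4, 0, 5] : List ℕ) = [5, 0, 4, 2, 3, 6, 4, 1, 2].reverse from rfl, w_rev]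
    group

theorem num3 (m k : ℕ) (hm : m = 3 ^ k) (h : 243 ≤ m ^ 2) : 27 ≤ m := by
  have hk : 3 ≤ k := by
    by_contra hc
    have : k ≤ 2 := by omega
    interval_cases k <;> subst hm <;> norm_num at h
  rw [hm]
  calc 27 = 3 ^ 3 := by norm_num
    _ ≤ 3 ^ k := Nat.pow_le_pow_right (by norm_num) hk

theorem num2 (m : ℕ) (h : 512 ≤ m ^ 2) : 23 ≤ m := by
  by_contra hc
  have h1 : m ≤ 22 := by omega
  have h2 : m ^ 2 ≤ 22 ^ 2 := Nat.pow_le_pow_left h1 2
  omega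

/-- exponent 3, in `BB` -/
theorem good_threeB {g : Suz} (hg : g ∈ BB) : Good.{u} Suz 3 27 g := by
  intro A _ _ _ hA hn
  exact b_rep (Q := 243) Nat.prime_three (fun g h1 h2 => good_three h1 h2) hg A hA hn num3

/-- exponent not 3, in `BB` -/
theorem good_neB {p : ℕ} (hp : p.Prime) (hp3 : p ≠ 3) {g : Suz} (hg : g ∈ BB) : Good.{u} Suz p 23 g := by
  intro A _ _ _ hA hn
  exact b_rep (Q := 512) hp (fun g h1 h2 => good_ne hp hp3 h1 h2) hg A hA hn fun m _ _ h => num2 m h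

end Cfsg.Agent.H795.S8.SuzW
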