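import Cfsg.Agent.H795.S8.SuzW

/-!
# Two commuting extraspecial groups modulo a subgroup of order three in a Sylow 3-subgroup of `Suz` (helper795)

`Z` is an element of order 3 of class 3B, `Y` another one of the centre of a Sylow 3-subgroup.
-/

set_option autoImplicit false
set_option maxRecDepth 1000000
set_option exponentiation.threshold 5000

namespace Cfsg.Agent.H795.S8.SuzW

open Cfsg Cfsg.Spor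

def Z : List ℕ := [6, 5, 3, 1, 2, 3, 4, 2, 3, 2, 1, 6, 5, 1, 2, 3, 4, 2, 3, 2, 1, 0, 4]

def Y : List ℕ := [0, 1, 2, 3, 4, 2, 3, 2, 0, 1, 5, 6, 1, 2, 3, 4, 2, 0, 3, 2, 1, 5, 6]

def S1 : List ℕ := [5, 6, 2, 1, 5, 6, 1, 2, 0, 1, 5, 3, 4, 3, 2, 3, 1, 0, 2, 3, 4, 6, 1, 0, 1, 2, 3, 2, 5, 6, 1, 5, 6, 1, 0, 2]

def S28 : List ℕ := [6, 1, 0, 1, 6, 5, 1, 2, 3, 4, 2, 3, 2, 1, 5, 2, 3, 2, 1, 3, 4, 3, 2, 1, 3, 2, 4, 3, 2, 6, 5, 1, 6, 5]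

def S41 : List ℕ := [1, 5, 2, 1, 6, 3, 2, 1, 5, 6, 1, 2, 3, 2, 1, 5, 4, 1, 2, 3, 2, 1, 0, 3, 4, 6, 1, 0, 2, 3, 2, 1, 5, 1, 6]

def S260 : List ℕ := [5, 2, 3, 4, 3, 2, 3, 1, 2, 3, 4, 1, 2, 3, 2, 0, 1, 0, 1, 2, 3, 2, 4, 3, 2, 1, 0, 1, 0, 5]

def S36 : List ℕ := [0, 1, 6, 0, 1, 5, 2, 3, 4, 2, 3, 2, 1, 6, 5, 2, 3, 2, 1, 4, 3, 2, 1, 3, 2, 3, 4, 3, 2, 1, 6, 1, 5, 1]

def S191 : List ℕ := [1, 6, 5, 1, 2, 3, 4, 3, 2, 3, 1, 2, 3, 4, 1, 2, 3, 0, 2, 5, 1, 0, 6, 1, 2, 3, 2, 4, 3, 2, 1, 0, 5, 1, 6, 0]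

def S165 : List ℕ := [6, 1, 2, 3, 4, 2, 3, 2, 1, 6, 0, 1, 2, 3, 4, 2, 3, 0, 2, 1, 0, 3, 4, 5, 1, 0, 1, 6]

def S167 : List ℕ := [2, 1, 5, 1, 6, 3, 2, 1, 5, 6, 1, 2, 3, 4, 1, 2, 0, 1, 0, 3, 2, 1, 0, 3, 2, 4, 3, 2, 5, 1, 2, 6, 1, 5, 1, 6, 2]

/-- repetition of a word -/
def rp (a : List ℕ) : ℕ → List ℕ
  | 0 => []
  | n + 1 => a ++ rp a n

theorem w_rp (a : List ℕ) (n : ℕ) : wv' (rp a n) = wv' a ^ n := by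
  induction n with
  | zero => rw [rp, w_nil, pow_zero]
  | succ n ih => rw [rp, w_app, ih, pow_succ']

/-- all relations -/
noncomputable def chkQ (K U V A B : List ℕ) (c1 c2 r1 r2 r3 r4 : ℕ) : Bool :=
  chkE (U ++ Z) (Z ++ U) && (chkE (V ++ Z) (Z ++ V) && (chkE (A ++ Z) (Z ++ A) && (chkE (B ++ Z) (Z ++ B) &&
  (chkE (U ++ K) (K ++ U) && (chkE (V ++ K) (K ++ V) && (chkE (A ++ K) (K ++ A) && (chkE (B ++ K) (K ++ B) &&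
  (chkE (rp U 3) (rp K c1) && (chkE (rp A 3) (rp K c2) &&
  (chkE (V ++ U) (U ++ (Z ++ V) ++ rp K r1) && (chkE (B ++ A) (A ++ (Z ++ B) ++ rp K r2) &&
  (chkE (A ++ U) (U ++ A ++ rp K r3) && chkE (B ++ U) (U ++ B ++ rp K r4)))))))))))))

theorem q0 : chkQ (Y ++ rp Z 0) S1 S28 S36 S191 0 0 0 0 1 0 = true := by decide +kernel

theorem q1 : chkQ (Y ++ rp Z 1) S1 S28 S165 S167 0 0 0 1 1 1 = true := by decide +kernel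

theorem q2 : chkQ (Y ++ rp Z 2) S1 S28 S41 S260 0 0 0 1 1 0 = true := by decide +kernel

theorem qz : (chkE (rp Z 3) [] && (chkE (rp Y 3) [] && chkE (Y ++ Z) (Z ++ Y))) = true := by decide +kernel

end Cfsg.Agent.H795.S8.SuzW
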