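import Cfsg.Agent.H257.RG.SuzGen
import Cfsg.Agent.SporRec.SuzCl.Tab

/-!
# Words in the presented Suzuki group and kernel checks of relations (helper795)

* `W l` : the element of a word in the seven generators;
* `W_eq` : equality of words, checked at the five base points;
* `wd_eq` : a product of conjugates of a class representative (given by its table) is a word.
-/

set_option autoImplicit false
set_option maxRecDepth 1000000
set_option exponentiation.threshold 5000

namespace Cfsg.Agent.H795.S8.SuzW

open Subgroup MulAction Cfsg.Agent.H257.RG Cfsg.Agent.H257.RG.SuzF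
open Cfsg Cfsg.Spor Cfsg.Agent.H123.Cls Cfsg.Agent.H123.Cls.SuzDat Cfsg.Agent.Lib.BitNet
open Cfsg.Agent.OddHalf.Table.SuzRep (ψ ψ_val ψ_injective)
open Cfsg.Agent.SporadicRecognition.SuzOrder (el)
open Cfsg.Agent.SporRec.SuzCl (eq_of_base)

/-- the element of a word -/
noncomputable def wv' (l : List ℕ) : Suz := el (l.map gn)

theorem w_app (a b : List ℕ) : wv' (a ++ b) = wv' a * wv' b := by
  unfold wv'
  simp only [el, List.map_append, List.prod_append]

theorem w_rev (a : List ℕ) : wv' a.reverse = (wv' a)⁻¹ := el_rev a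

theorem w_nil : wv' [] = 1 := by
  unfold wv'
  simp [el]

/-- all letters are generators -/
def okL (a : List ℕ) : Bool := a.all fun k => Nat.blt k 7

theorem okL_spec {a : List ℕ} (h : okL a = true) : ∀ k ∈ a, k < 7 := by
  intro k hk
  have := List.all_eq_true.1 h k hk
  simpa [Nat.blt_eq] using this

/-- equality at the base points -/
noncomputable def chkE (a b : List ℕ) : Bool :=
  okL a && (okL b && [14, 98, 1, 1575, 0].all fun q => Nat.beq (evw 11 gens a q) (evw 11 gens b q))

theorem ext_base {x y : Suz} (h : ∀ q : Fin 1782, (q : ℕ) ∈ [14, 98, 1, 1575, 0] → (ψ x q : ℕ) = ψ y q) : x = y := by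
  apply eq_of_base
  intro q hq
  have hq' : q < 1782 := by
    simp only [List.mem_cons, List.not_mem_nil, or_false] at hq
    rcases hq with rfl | rfl | rfl | rfl | rfl <;> norm_num
  have h1 := h ⟨q, hq'⟩ hq
  rw [ψ_val, ψ_val] at h1
  exact h1

theorem w_eq {a b : List ℕ} (h : chkE a b = true) : wv' a = wv' b := by
  unfold chkE at h
  rw [Bool.and_eq_true, Bool.and_eq_true] at h
  obtain ⟨h1, h2, h3⟩ := h
  apply ext_base
  intro q hq
  have h4 := List.all_eq_true.1 h3 q hq
  unfold wv'
  rw [ev_tab a (okL_spec h1), ev_tab b (okL_spec h2)]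
  exact Nat.eq_of_beq_eq_true h4

/-- a product of conjugates is a word -/
noncomputable def chkG (P : ℕ) (u v : List ℕ) (L : List ℕ) (b : List ℕ) : Bool :=
  okL b && [14, 98, 1, 1575, 0].all fun q => Nat.beq (wv P u v L q) (evw 11 gens b q)

theorem wd_eq {x : Suz} {P : ℕ} {u v : List ℕ} (hx : ∀ p : Fin 1782, (ψ x p : ℕ) = lk 11 P p) (hu : okL u = true)
    (hv : v = u.reverse) {L b : List ℕ} (h : chkG P u v L b = true) : wd x (wv' u) L = wv' b := by
  unfold chkG at h
  rw [Bool.and_eq_true] at h
  obtain ⟨h1, h3⟩ := h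
  apply ext_base
  intro q hq
  have h4 := List.all_eq_true.1 h3 q hq
  unfold wv'
  rw [wv_eq hx (okL_spec hu) hv, ev_tab b (okL_spec h1)]
  exact Nat.eq_of_beq_eq_true h4

end Cfsg.Agent.H795.S8.SuzW
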